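import Groth.Agent.RibbonExt.Basic
import Mathlib.Algebra.Homology.DerivedCategory.Ext.ExactSequences

/-!
# Ribbons and the classes of their cotangent sequences
-/

set_option autoImplicit false
set_option backward.isDefEq.respectTransparency false
set_option backward.defeqAttrib.useBackward true
set_option linter.style.haveILetI false
set_option maxHeartbeats 1000000

universe w u

open CategoryTheory CategoryTheory.Limits AlgebraicGeometry TopologicalSpace Opposite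
open Groth.Agent.OmegaUnivLib Groth.Agent.ConormalLib Groth.Agent.RibbonExt
open Groth.Agent.PullbackMod (pullMap)

namespace Groth.Agent.RibbonClassLib

noncomputable section

theorem pullMap_mono {X Y : Scheme.{u}} (h : Y ⟶ X) (M : X.Modules) {W : X.Opens} {V V' : Y.Opens}
    (e : V ≤ h ⁻¹ᵁ W) (hV : V' ≤ V) (m : Γ(M, W)) :
    ((Scheme.Modules.pullback h).obj M).presheaf.map (homOfLE hV).op (pullMap h M e m) =
      pullMap h M (hV.trans e) m :=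
  res_mod e hV _

theorem pullMap_cast {X Y : Scheme.{u}} (h : Y ⟶ X) (M : X.Modules) {W W' : X.Opens} {V : Y.Opens}
    (hW : W' ≤ W) (e : V ≤ h ⁻¹ᵁ W) (e' : V ≤ h ⁻¹ᵁ W') (m : Γ(M, W)) :
    pullMap h M e' (M.presheaf.map (homOfLE hW).op m) = pullMap h M e m := by
  rw [← PullbackMod.pullMap_res h M e hW le_rfl e', pullMap_mono]

/-- A map of restricted cotangent modules is induced by a morphism. -/
def Induced {S D C X : Scheme.{u}} (i : D ⟶ C) {pC : C ⟶ S} {pX : X ⟶ S} {Ω₁ : C.Modules}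
    (d₁ : OmegaSh.Der pC Ω₁) {Ω₃ : X.Modules} (d₃ : OmegaSh.Der pX Ω₃) (g : C ⟶ X) (f : D ⟶ X)
    (s : (Scheme.Modules.pullback f).obj Ω₃ ⟶ (Scheme.Modules.pullback i).obj Ω₁) : Prop :=
  ∀ (U : X.Opens) (b : Γ(X, U)) (W : D.Opens) (e : W ≤ f ⁻¹ᵁ U) (e₂ : W ≤ i ⁻¹ᵁ (g ⁻¹ᵁ U)),
    s.app W (pullMap f Ω₃ e (d₃.app U b)) = pullMap i Ω₁ e₂ (d₁.app _ (g.app U b))

theorem exists_induced {S D C X : Scheme.{u}} (i : D ⟶ C) {pC : C ⟶ S} {pX : X ⟶ S} {Ω₁ : C.Modules}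
    (d₁ : OmegaSh.Der pC Ω₁) {Ω₂ : D.Modules} {pD : D ⟶ S} {d₂ : OmegaSh.Der pD Ω₂}
    {c : (Scheme.Modules.pullback i).obj Ω₁ ⟶ Ω₂}
    {Ω₃ : X.Modules} {d₃ : OmegaSh.Der pX Ω₃}
    (hd₃ : OmegaSh.IsUniversal d₃) (g : C ⟶ X) (hg : g ≫ pX = pC) (hc : OmegaSh.IsDiffCompat i d₁ d₂ c)
    (f : D ⟶ X) (hf : i ≫ g = f)
    (df : (Scheme.Modules.pullback f).obj Ω₃ ⟶ Ω₂) (hdf : OmegaSh.IsDiffCompat f d₃ d₂ df) :
    ∃ s : (Scheme.Modules.pullback f).obj Ω₃ ⟶ (Scheme.Modules.pullback i).obj Ω₁,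
      s ≫ c = df ∧ Induced i d₁ d₃ g f s := by
  subst hf
  let F := (Scheme.Modules.pushforward (i ≫ g)).obj ((Scheme.Modules.pullback i).obj Ω₁)
  let δ : ∀ U : X.Opens, Γ(X, U) →+ Γ(F, U) := fun U =>
    ((OmegaSh.pullSect i Ω₁ (g ⁻¹ᵁ U)).hom.comp (d₁.app (g ⁻¹ᵁ U))).comp (g.app U).hom.toAddMonoidHom
  let D₁ : OmegaSh.Der pX F := OmegaUnivLib.mkDer δ
    (fun U a b => by
      show OmegaSh.pullSect i Ω₁ (g ⁻¹ᵁ U) (d₁.app _ (g.app U (a * b))) = _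
      rw [map_mul, app_mul, map_add, pullSect_smul, pullSect_smul]
      rfl)
    (fun {U V} k x => by
      show OmegaSh.pullSect i Ω₁ (g ⁻¹ᵁ U) (d₁.app _ (g.app U (X.presheaf.map k.op x))) = _
      rw [show g.app U (X.presheaf.map k.op x) = C.presheaf.map ((Opens.map g.base).map k).op (g.app V x) from
        congr($(g.naturality k.op) x), app_res]
      exact OmegaUnivLib.hom_natural ((Scheme.Modules.pullbackPushforwardAdjunction i).unit.app Ω₁) _ _)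
    (fun V r => by
      show OmegaSh.pullSect i Ω₁ (g ⁻¹ᵁ (pX ⁻¹ᵁ V)) (d₁.app _ (g.app _ (pX.app V r))) = 0
      have h0 : d₁.app (g ⁻¹ᵁ (pX ⁻¹ᵁ V)) (g.app _ (pX.app V r)) = 0 := by
        subst hg
        exact d₁.d_app (X := op V) r
      rw [h0, map_zero])
  obtain ⟨α, hα, -⟩ := hd₃ F D₁
  let adj := Scheme.Modules.pullbackPushforwardAdjunction (i ≫ g)
  refine ⟨(adj.homEquiv _ _).symm α, (adj.homEquiv _ _).injective ?_, ?_⟩
  · rw [adj.homEquiv_naturality_right, Equiv.apply_symm_apply]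
    refine (hd₃ _ (OmegaUnivLib.comp D₁ ((Scheme.Modules.pushforward (i ≫ g)).map c))).unique ?_ ?_
    · rw [← hα]
      exact der_ext fun U b => rfl
    · refine der_ext fun U b => ?_
      show ((adj.homEquiv _ _) df).app U (d₃.app U b) = c.app _ (OmegaSh.pullSect i Ω₁ (g ⁻¹ᵁ U) (d₁.app _ (g.app U b)))
      rw [Adjunction.homEquiv_unit]
      refine (hdf U b).trans ?_
      refine Eq.trans ?_ (hc (g ⁻¹ᵁ U) (g.app U b)).symm
      rfl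
  · intro U b W e e₂
    have h1 : ((adj.homEquiv _ _) ((adj.homEquiv _ _).symm α)).app U (d₃.app U b) = α.app U (d₃.app U b) := by
      rw [Equiv.apply_symm_apply]
    rw [Adjunction.homEquiv_unit] at h1
    have h2 : α.app U (d₃.app U b) = D₁.app U b := by
      rw [← hα]; rfl
    have h3 : ((adj.homEquiv _ _).symm α).app ((i ≫ g) ⁻¹ᵁ U) (OmegaSh.pullSect (i ≫ g) Ω₃ U (d₃.app U b)) =
        OmegaSh.pullSect i Ω₁ (g ⁻¹ᵁ U) (d₁.app _ (g.app U b)) := h1.trans h2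
    show ((adj.homEquiv _ _).symm α).app W
      (((Scheme.Modules.pullback (i ≫ g)).obj Ω₃).presheaf.map (homOfLE e).op (OmegaSh.pullSect (i ≫ g) Ω₃ U (d₃.app U b))) = _
    rw [OmegaUnivLib.hom_natural, h3]
    rfl

theorem pullback_hom_ext {S D X : Scheme.{u}} {pX : X ⟶ S} {Ω₃ : X.Modules} {d₃ : OmegaSh.Der pX Ω₃}
    (hd₃ : OmegaSh.IsUniversal d₃) (f : D ⟶ X) {M : D.Modules}
    (s t : (Scheme.Modules.pullback f).obj Ω₃ ⟶ M)
    (h : ∀ (U : X.Opens) (b : Γ(X, U)),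
      s.app (f ⁻¹ᵁ U) (OmegaSh.pullSect f Ω₃ U (d₃.app U b)) = t.app (f ⁻¹ᵁ U) (OmegaSh.pullSect f Ω₃ U (d₃.app U b))) :
    s = t := by
  let adj := Scheme.Modules.pullbackPushforwardAdjunction f
  refine (adj.homEquiv _ _).injective ((hd₃ _ (OmegaUnivLib.comp d₃ ((adj.homEquiv _ _) t))).unique ?_ ?_)
  · refine der_ext fun U b => ?_
    show ((adj.homEquiv _ _) s).app U (d₃.app U b) = ((adj.homEquiv _ _) t).app U (d₃.app U b)
    rw [Adjunction.homEquiv_unit, Adjunction.homEquiv_unit]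
    exact h U b
  · exact der_ext fun U b => rfl

/-- Mutually inverse morphisms induce mutually inverse maps. -/
theorem induced_comp_eq_id {S D C C' : Scheme.{u}} {i : D ⟶ C} {i' : D ⟶ C'} {pC : C ⟶ S} {pC' : C' ⟶ S}
    {Ω₁ : C.Modules} {d₁ : OmegaSh.Der pC Ω₁} {Ω₁' : C'.Modules} {d₁' : OmegaSh.Der pC' Ω₁'}
    (hd₁' : OmegaSh.IsUniversal d₁') (g : C ⟶ C') (g' : C' ⟶ C) (hgg : g' ≫ g = 𝟙 C') (hg : i ≫ g = i')
    (hg' : i' ≫ g' = i)
    {s : (Scheme.Modules.pullback i').obj Ω₁' ⟶ (Scheme.Modules.pullback i).obj Ω₁}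
    {s' : (Scheme.Modules.pullback i).obj Ω₁ ⟶ (Scheme.Modules.pullback i').obj Ω₁'}
    (hs : Induced i d₁ d₁' g i' s) (hs' : Induced i' d₁' d₁ g' i s') :
    s ≫ s' = 𝟙 _ := by
  refine pullback_hom_ext hd₁' i' _ _ fun U b => ?_
  have e₁ : i' ⁻¹ᵁ U ≤ i ⁻¹ᵁ (g ⁻¹ᵁ U) := by rw [← Scheme.Hom.comp_preimage, hg]
  have e₂ : i' ⁻¹ᵁ U ≤ i' ⁻¹ᵁ (g' ⁻¹ᵁ (g ⁻¹ᵁ U)) := by
    rw [← Scheme.Hom.comp_preimage g', hgg]; exact le_rfl
  have hU : g' ⁻¹ᵁ (g ⁻¹ᵁ U) ≤ U := by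
    rw [← Scheme.Hom.comp_preimage g', hgg]; exact le_rfl
  show s'.app _ (s.app (i' ⁻¹ᵁ U) (OmegaSh.pullSect i' Ω₁' U (d₁'.app U b))) = OmegaSh.pullSect i' Ω₁' U (d₁'.app U b)
  rw [← pullMap_eq, hs U b (i' ⁻¹ᵁ U) le_rfl e₁, hs' (g ⁻¹ᵁ U) (g.app U b) (i' ⁻¹ᵁ U) e₁ e₂]
  have h1 : g'.app (g ⁻¹ᵁ U) (g.app U b) = C'.presheaf.map (homOfLE hU).op b := by
    rw [← CommRingCat.comp_apply, ← Scheme.Hom.comp_app, Scheme.Hom.congr_app hgg U]
    simp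
    rfl
  rw [h1, app_res, pullMap_cast i' Ω₁' hU le_rfl e₂]

section Extend

variable {S D C C' : Scheme.{u}} {i : D ⟶ C} [IsClosedImmersion i] {i' : D ⟶ C'} [IsClosedImmersion i']
  {pC : C ⟶ S} {pC' : C' ⟶ S} {Ω₁ : C.Modules} {d₁ : OmegaSh.Der pC Ω₁} {Ω₁' : C'.Modules}
  {d₁' : OmegaSh.Der pC' Ω₁'} {Ω₂ : D.Modules} {d₂ : OmegaSh.Der (i ≫ pC) Ω₂}
  {d₂' : OmegaSh.Der (i' ≫ pC') Ω₂}
  {φ : Omega.conormal i ⟶ (Scheme.Modules.pullback i).obj Ω₁}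
  {c : (Scheme.Modules.pullback i).obj Ω₁ ⟶ Ω₂}
  {φ' : Omega.conormal i' ⟶ (Scheme.Modules.pullback i').obj Ω₁'}
  {c' : (Scheme.Modules.pullback i').obj Ω₁' ⟶ Ω₂}
  (T : Thick i d₁ d₂ φ c) (T' : Thick i' d₁' d₂' φ' c')
  (hdf : OmegaSh.IsDiffCompat i' d₁' d₂ c') (hdf' : OmegaSh.IsDiffCompat i d₁ d₂' c)
  {s : (Scheme.Modules.pullback i').obj Ω₁' ⟶ (Scheme.Modules.pullback i).obj Ω₁} (hs : s ≫ c = c')
  {s' : (Scheme.Modules.pullback i).obj Ω₁ ⟶ (Scheme.Modules.pullback i').obj Ω₁'} (hs' : s' ≫ c' = c)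

theorem extend_comp_extend (hss : s' ≫ s = 𝟙 _) : extend T hdf hs ≫ extend T' hdf' hs' = 𝟙 C := by
  have hbase : ∀ y, (extend T hdf hs ≫ extend T' hdf' hs').base y = y := fun y => by
    obtain ⟨x, rfl⟩ := T.surj y
    show RibbonExt.base T' i (RibbonExt.base T i' (i x)) = i x
    rw [base_i T x, base_i T' x]
  refine Scheme.Hom.ext (TopCat.hom_ext (ContinuousMap.ext hbase)) fun U => ?_
  ext a
  set P := extend T hdf hs with hP
  set Q := extend T' hdf' hs' with hQ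
  have key : ∀ (V : C.Opens) (hV : V = U) (y : Γ(C, V)),
      Lifts i d₁ V (i.appLE U (i ⁻¹ᵁ V) (by rw [hV]) a) (pullMap i Ω₁ (by rw [hV] : i ⁻¹ᵁ V ≤ i ⁻¹ᵁ U) (d₁.app U a)) y →
      ∀ (k : op V ⟶ op U), C.presheaf.map k y = a := by
    rintro _ rfl y hy k
    rw [Subsingleton.elim k (𝟙 _), CategoryTheory.Functor.map_id]
    refine lifts_unique T hy ⟨by rw [Scheme.Hom.app_eq_appLE], (pullMap_eq i Ω₁ _ _).symm⟩
  show C.presheaf.map _ ((P ≫ Q).app U a) = (𝟙 C : C ⟶ C).app U a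
  rw [Scheme.Hom.id_app]
  refine key _ ?_ _ ?_ _
  · ext1
    exact Set.ext fun y => by
      show (P ≫ Q).base y ∈ U ↔ y ∈ U
      rw [hbase y]
  · set z := Q.app U a with hz
    have e' : i' ⁻¹ᵁ (Q ⁻¹ᵁ U) ≤ i ⁻¹ᵁ U := preimage_base T' U
    have e : i ⁻¹ᵁ (P ⁻¹ᵁ (Q ⁻¹ᵁ U)) ≤ i' ⁻¹ᵁ (Q ⁻¹ᵁ U) := preimage_base T _
    obtain ⟨hz1, hz2⟩ := val_spec T' hdf' hs' e' a
    obtain ⟨hy1, hy2⟩ := val_spec T hdf hs e z
    refine ⟨?_, ?_⟩
    · refine hy1.trans ?_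
      rw [Scheme.Hom.appLE, CommRingCat.comp_apply]
      refine (congrArg _ hz1).trans ?_
      rw [← CommRingCat.comp_apply, Scheme.Hom.appLE_map]
      rfl
    · refine hy2.trans ?_
      show s.app _ (((Scheme.Modules.pullback i').obj Ω₁').presheaf.map (homOfLE e).op
        (OmegaSh.pullSect i' Ω₁' (Q ⁻¹ᵁ U) (d₁'.app _ z))) = _
      refine (congrArg (fun t => s.app _ (((Scheme.Modules.pullback i').obj Ω₁').presheaf.map (homOfLE e).op t)) hz2).trans ?_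
      show s.app _ (((Scheme.Modules.pullback i').obj Ω₁').presheaf.map (homOfLE e).op
        (s'.app _ (pullMap i Ω₁ e' (d₁.app U a)))) = _
      rw [← OmegaUnivLib.hom_natural, ← ConcreteCategory.comp_apply (s'.app _) (s.app _)]
      erw [← Scheme.Modules.Hom.comp_app, hss]
      exact pullMap_mono i Ω₁ e' e _

end Extend

section Main

variable {S D C C' : Scheme.{u}} {i : D ⟶ C} {i' : D ⟶ C'}
  {pC : C ⟶ S} {pC' : C' ⟶ S} {Ω₁ : C.Modules} {d₁ : OmegaSh.Der pC Ω₁} {Ω₁' : C'.Modules}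
  {d₁' : OmegaSh.Der pC' Ω₁'} {Ω₂ : D.Modules}
  {φ : Omega.conormal i ⟶ (Scheme.Modules.pullback i).obj Ω₁}
  {c : (Scheme.Modules.pullback i).obj Ω₁ ⟶ Ω₂}
  {φ' : Omega.conormal i' ⟶ (Scheme.Modules.pullback i').obj Ω₁'}
  {c' : (Scheme.Modules.pullback i').obj Ω₁' ⟶ Ω₂} {hw : φ ≫ c = 0} {hw' : φ' ≫ c' = 0}
  [HasExt.{w} D.Modules]

omit d₁ d₁' in
/-- Equal classes give an isomorphism of extensions. -/
theorem exists_middle_iso (hS : (ShortComplex.mk φ c hw).ShortExact) (hS' : (ShortComplex.mk φ' c' hw').ShortExact)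
    (α : Omega.conormal i ≅ Omega.conormal i')
    (hα : hS.extClass.comp (Abelian.Ext.mk₀ α.hom) (add_zero 1) = hS'.extClass) :
    ∃ β : (Scheme.Modules.pullback i).obj Ω₁ ≅ (Scheme.Modules.pullback i').obj Ω₁', β.hom ≫ c' = c := by
  have h0 : hS.extClass.comp (Abelian.Ext.mk₀ (α.hom ≫ φ')) (add_zero 1) = 0 := by
    rw [← Abelian.Ext.mk₀_comp_mk₀, ← Abelian.Ext.comp_assoc_of_third_deg_zero, hα]
    exact hS'.extClass_comp
  obtain ⟨x, hx⟩ := Abelian.Ext.contravariant_sequence_exact₁ hS _ _ (add_zero 1) h0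
  obtain ⟨β₀, rfl⟩ := (Abelian.Ext.mk₀_bijective _ _).2 x
  rw [Abelian.Ext.mk₀_comp_mk₀] at hx
  have hβ₀ : φ ≫ β₀ = α.hom ≫ φ' := (Abelian.Ext.mk₀_bijective _ _).1 hx
  haveI : Epi c := hS.epi_g
  let g := hS.exact.desc (β₀ ≫ c') (by rw [← Category.assoc]; erw [hβ₀]; rw [Category.assoc, hw', comp_zero])
  have hg : c ≫ g = β₀ ≫ c' := hS.exact.g_desc _ _
  let m : ShortComplex.mk φ c hw ⟶ ShortComplex.mk φ' c' hw' :=
    { τ₁ := α.hom, τ₂ := β₀, τ₃ := g, comm₁₂ := hβ₀.symm, comm₂₃ := hg.symm }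
  have hn := hS.extClass_naturality hS' m
  rw [show hS.extClass.comp (Abelian.Ext.mk₀ m.τ₁) (add_zero 1) = hS'.extClass from hα] at hn
  have h1 : (Abelian.Ext.mk₀ (g - 𝟙 Ω₂)).comp hS'.extClass (zero_add 1) = 0 := by
    have : Abelian.Ext.mk₀ (g - 𝟙 Ω₂) = Abelian.Ext.mk₀ g - Abelian.Ext.mk₀ (𝟙 Ω₂) :=
      map_sub (Abelian.Ext.addEquiv₀.symm) _ _
    rw [this, sub_eq_add_neg, Abelian.Ext.add_comp, Abelian.Ext.neg_comp, Abelian.Ext.mk₀_id_comp, ← sub_eq_add_neg, sub_eq_zero]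
    exact hn.symm
  obtain ⟨y, hy⟩ := Abelian.Ext.covariant_sequence_exact₃ _ hS' _ (zero_add 1) h1
  obtain ⟨h, rfl⟩ := (Abelian.Ext.mk₀_bijective _ _).2 y
  rw [Abelian.Ext.mk₀_comp_mk₀] at hy
  have hh : h ≫ c' = g - 𝟙 Ω₂ := (Abelian.Ext.mk₀_bijective _ _).1 hy
  have h23 : (β₀ - c ≫ h) ≫ c' = c := by
    rw [Preadditive.sub_comp, Category.assoc, hh, Preadditive.comp_sub, hg, Category.comp_id, sub_sub_cancel]
  let m' : ShortComplex.mk φ c hw ⟶ ShortComplex.mk φ' c' hw' :=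
    { τ₁ := α.hom, τ₂ := β₀ - c ≫ h, τ₃ := 𝟙 Ω₂
      comm₁₂ := by
        show α.hom ≫ φ' = φ ≫ (β₀ - c ≫ h)
        rw [Preadditive.comp_sub, reassoc_of% hw, zero_comp, sub_zero, hβ₀]
      comm₂₃ := by
        show (β₀ - c ≫ h) ≫ c' = c ≫ 𝟙 Ω₂
        rw [h23, Category.comp_id] }
  haveI : IsIso m'.τ₁ := inferInstanceAs (IsIso α.hom)
  haveI : IsIso m'.τ₃ := inferInstanceAs (IsIso (𝟙 Ω₂))
  haveI : IsIso (β₀ - c ≫ h) := ShortComplex.isIso₂_of_shortExact_of_isIso₁₃ m' hS hS'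
  exact ⟨asIso (β₀ - c ≫ h), h23⟩

omit d₁ d₁' in
/-- An isomorphism of extensions gives equal classes. -/
theorem exists_conormal_iso (hS : (ShortComplex.mk φ c hw).ShortExact) (hS' : (ShortComplex.mk φ' c' hw').ShortExact)
    (β : (Scheme.Modules.pullback i).obj Ω₁ ≅ (Scheme.Modules.pullback i').obj Ω₁') (hβ : β.hom ≫ c' = c) :
    ∃ α : Omega.conormal i ≅ Omega.conormal i',
      hS.extClass.comp (Abelian.Ext.mk₀ α.hom) (add_zero 1) = hS'.extClass := by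
  haveI : Mono φ := hS.mono_f
  haveI : Mono φ' := hS'.mono_f
  have hβ' : β.inv ≫ c = c' := by rw [Iso.inv_comp_eq, hβ]
  let a := hS'.exact.lift (φ ≫ β.hom) (by rw [Category.assoc]; erw [hβ]; exact hw)
  let b := hS.exact.lift (φ' ≫ β.inv) (by rw [Category.assoc]; erw [hβ']; exact hw')
  have ha : a ≫ φ' = φ ≫ β.hom := hS'.exact.lift_f _ _
  have hb : b ≫ φ = φ' ≫ β.inv := hS.exact.lift_f _ _
  let α : Omega.conormal i ≅ Omega.conormal i' :=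
    { hom := a
      inv := b
      hom_inv_id := by
        rw [← cancel_mono φ, Category.assoc, hb, reassoc_of% ha, β.hom_inv_id, Category.comp_id, Category.id_comp]
      inv_hom_id := by
        rw [← cancel_mono φ', Category.assoc, ha, reassoc_of% hb, β.inv_hom_id, Category.comp_id, Category.id_comp] }
  let m : ShortComplex.mk φ c hw ⟶ ShortComplex.mk φ' c' hw' :=
    { τ₁ := a, τ₂ := β.hom, τ₃ := 𝟙 Ω₂, comm₁₂ := ha, comm₂₃ := by
        show β.hom ≫ c' = c ≫ 𝟙 Ω₂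
        rw [hβ, Category.comp_id] }
  have hn := hS.extClass_naturality hS' m
  refine ⟨α, hn.trans ?_⟩
  exact Abelian.Ext.mk₀_id_comp _

theorem exists_der {D C' S : Scheme.{u}} {i' : D ⟶ C'} {pC' : C' ⟶ S} {p : D ⟶ S} (h : i' ≫ pC' = p)
    {Ω₂ : D.Modules} (d : OmegaSh.Der p Ω₂) :
    ∃ d' : OmegaSh.Der (i' ≫ pC') Ω₂, ∀ U a, d'.app U a = d.app U a := by
  subst h; exact ⟨d, fun _ _ => rfl⟩

end Main

end

end Groth.Agent.RibbonClassLib
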